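import Mathlib

/-!
# The simple group of order `1092 = |L₂(13)|` in characteristic three (helper369, S3483)

`fix` : in every nonzero module in characteristic `3` an element of order `7` or `13` has a nonzero fixed vector.
(Count the Sylow `13`-subgroups, Sylow `7`-subgroups and the normalizers of the Sylow `13`-subgroups which contain a given
element: `a + f + 2 b = 2` for all elements `≠ 1`.)
-/

set_option autoImplicit false

namespace Cfsg.Agent.H369.G3.Fix13

open Finset

section vec

variable {L : Type*} [Group L] [Fintype L] {V : Type*} [AddCommGroup V]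

open Classical in
theorem sum_mem_eq_zero (φ : L →* AddMonoid.End V) (H : Subgroup L) {x : L} (hx : x ∈ H)
    (hfix : ∀ v : V, φ x v = v → v = 0) (v : V) : ∑ g ∈ univ.filter (fun g : L => g ∈ H), φ g v = 0 := by
  apply hfix
  rw [map_sum]
  refine Finset.sum_equiv (Equiv.mulLeft x) (fun g => ?_) (fun g _ => ?_)
  · simp only [mem_filter, mem_univ, true_and, Equiv.coe_mulLeft]
    exact (Subgroup.mul_mem_cancel_left H hx).symm
  · rw [Equiv.coe_mulLeft, map_mul]
    rfl

open Classical in
theorem sum_card_smul (φ : L →* AddMonoid.End V) {I : Type*} [Fintype I] (H : I → Subgroup L) (v : V) :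
    ∑ g : L, (#(univ.filter fun i : I => g ∈ H i)) • φ g v =
      ∑ i : I, ∑ g ∈ univ.filter (fun g : L => g ∈ H i), φ g v := by
  simp only [card_filter, sum_smul, sum_filter, ite_smul, one_smul, zero_smul]
  exact sum_comm

open Classical in
theorem sum_card {I : Type*} [Fintype I] (H : I → Subgroup L) :
    ∑ g : L, #(univ.filter fun i : I => g ∈ H i) = ∑ i : I, Nat.card (H i) := by
  have h1 : ∀ i : I, Nat.card (H i) = ∑ g : L, if g ∈ H i then 1 else 0 := by
    intro i
    rw [← card_filter, Nat.card_eq_fintype_card]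
    exact Fintype.card_subtype _
  simp only [h1, card_filter]
  exact sum_comm

end vec

section grp

variable {L : Type*} [Group L] [Finite L]

theorem card_sylow {p : ℕ} [hp : Fact p.Prime] (h1 : p ∣ Nat.card L) (h2 : ¬ p ^ 2 ∣ Nat.card L) (P : Sylow p L) :
    Nat.card P = p := by
  obtain ⟨n, hn⟩ := IsPGroup.iff_card.1 P.2
  have h3 : ¬ p ∣ (P : Subgroup L).index := P.not_dvd_index
  have h4 := (P : Subgroup L).card_mul_index
  rcases n with _ | _ | n
  · exfalso
    apply h3
    rw [hn, pow_zero, one_mul] at h4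
    rwa [h4]
  · rw [hn, zero_add, pow_one]
  · exfalso
    apply h2
    rw [← h4, hn]
    exact (pow_dvd_pow p (by omega)).mul_right _

theorem eq_of_mem {p : ℕ} [hp : Fact p.Prime] (hc : ∀ P : Sylow p L, Nat.card P = p) {g : L} (hg : orderOf g = p)
    {P : Sylow p L} (h : g ∈ P) : (P : Subgroup L) = Subgroup.zpowers g := by
  symm
  apply Subgroup.eq_of_le_of_card_ge
  · rw [Subgroup.zpowers_le]; exact h
  · rw [Nat.card_zpowers, hg, hc P]

variable [IsSimpleGroup L]

/-- the number of Sylow subgroups is not one -/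
theorem card_ne_one {p : ℕ} [hp : Fact p.Prime] (hc : ∀ P : Sylow p L, Nat.card P = p) (hL : Nat.card L ≠ p) :
    Nat.card (Sylow p L) ≠ 1 := by
  intro h
  have P : Sylow p L := default
  rw [Sylow.card_eq_index_normalizer P, Subgroup.index_eq_one] at h
  replace h : Subgroup.normalizer ((P : Subgroup L) : Set L) = ⊤ := h
  rw [Subgroup.normalizer_eq_top_iff] at h
  have h1 := hc P
  rcases h.eq_bot_or_eq_top with h2 | h2
  · have h3 : Nat.card (P : Subgroup L) = p := h1
    rw [h2, Subgroup.card_bot] at h3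
    exact hp.out.one_lt.ne h3
  · have h3 : Nat.card (P : Subgroup L) = p := h1
    rw [h2, Subgroup.card_top] at h3
    exact hL h3

theorem card_index {p m : ℕ} [hp : Fact p.Prime] (hc : ∀ P : Sylow p L, Nat.card P = p) (hL : Nat.card L = p * m)
    (P : Sylow p L) : (P : Subgroup L).index = m := by
  have h4 := (P : Subgroup L).card_mul_index
  have h5 : Nat.card (P : Subgroup L) = p := hc P
  rw [h5, hL] at h4
  exact Nat.eq_of_mul_eq_mul_left hp.out.pos h4

theorem number13 [Fact (Nat.Prime 13)] (hL : Nat.card L = 1092) (hc : ∀ P : Sylow 13 L, Nat.card P = 13) :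
    Nat.card (Sylow 13 L) = 14 := by
  have P : Sylow 13 L := default
  have h1 := P.card_dvd_index
  rw [card_index hc (m := 84) (by rw [hL]) P] at h1
  have h2 := card_sylow_modEq_one 13 L
  have h3 := card_ne_one hc (by rw [hL]; norm_num)
  have h4 : Nat.card (Sylow 13 L) ∈ Nat.divisors 84 := Nat.mem_divisors.2 ⟨h1, by norm_num⟩
  rw [show Nat.divisors 84 = {1, 2, 3, 4, 6, 7, 12, 14, 21, 28, 42, 84} by decide +kernel] at h4
  simp only [Finset.mem_insert, Finset.mem_singleton] at h4
  unfold Nat.ModEq at h2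
  omega

theorem number7 [Fact (Nat.Prime 7)] (hL : Nat.card L = 1092) (hc : ∀ P : Sylow 7 L, Nat.card P = 7) :
    Nat.card (Sylow 7 L) = 78 := by
  have P : Sylow 7 L := default
  have h1 := P.card_dvd_index
  rw [card_index hc (m := 156) (by rw [hL]) P] at h1
  have h2 := card_sylow_modEq_one 7 L
  have h3 := card_ne_one hc (by rw [hL]; norm_num)
  have h4 : Nat.card (Sylow 7 L) ∈ Nat.divisors 156 := Nat.mem_divisors.2 ⟨h1, by norm_num⟩
  rw [show Nat.divisors 156 = {1, 2, 3, 4, 6, 12, 13, 26, 39, 52, 78, 156} by decide +kernel] at h4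
  simp only [Finset.mem_insert, Finset.mem_singleton] at h4
  unfold Nat.ModEq at h2
  omega

end grp

section count

variable {L : Type*} [Group L] [Fintype L]

open Classical in
theorem cnt_one {I : Type*} [Fintype I] (H : I → Subgroup L) :
    #(univ.filter fun i : I => (1 : L) ∈ H i) = Fintype.card I := by
  rw [filter_true_of_mem fun i _ => (H i).one_mem, card_univ]

open Classical in
theorem cnt_order {p : ℕ} [hp : Fact p.Prime] [Fintype (Sylow p L)] (hc : ∀ P : Sylow p L, Nat.card P = p) {g : L}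
    (hg : orderOf g = p) : #(univ.filter fun P : Sylow p L => g ∈ (P : Subgroup L)) = 1 := by
  have h1 : IsPGroup p (Subgroup.zpowers g) := by
    refine IsPGroup.of_card (n := 1) ?_
    rw [Nat.card_zpowers, hg, pow_one]
  obtain ⟨P, hP⟩ := h1.exists_le_sylow
  have hgP : g ∈ (P : Subgroup L) := hP (Subgroup.mem_zpowers g)
  rw [card_eq_one]
  refine ⟨P, ?_⟩
  ext Q
  simp only [mem_filter, mem_univ, true_and, mem_singleton]
  constructor
  · intro hQ
    apply Sylow.ext
    rw [eq_of_mem hc hg hQ, eq_of_mem hc hg hgP]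
  · rintro rfl
    exact hgP

open Classical in
theorem cnt_ne {p : ℕ} [hp : Fact p.Prime] [Fintype (Sylow p L)] (hc : ∀ P : Sylow p L, Nat.card P = p) {g : L}
    (hg1 : g ≠ 1) (hg : orderOf g ≠ p) : #(univ.filter fun P : Sylow p L => g ∈ (P : Subgroup L)) = 0 := by
  rw [card_eq_zero, filter_eq_empty_iff]
  intro P _ hP
  have h1 : orderOf g ∣ p := by
    have h2 : orderOf (⟨g, hP⟩ : (P : Subgroup L)) ∣ Nat.card (P : Subgroup L) := orderOf_dvd_natCard _
    rw [Subgroup.orderOf_mk] at h2
    have h3 : Nat.card (P : Subgroup L) = p := hc P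
    rwa [h3] at h2
  rcases (Nat.dvd_prime hp.out).1 h1 with h2 | h2
  · exact hg1 (orderOf_eq_one_iff.1 h2)
  · exact hg h2

/-- elements of order `p` in the normalizer -/
theorem mem_of_normalizer {p : ℕ} [hp : Fact p.Prime] {g : L} (hg : orderOf g = p) {P : Sylow p L}
    (h : g ∈ Subgroup.normalizer (P : Set L)) : g ∈ (P : Subgroup L) := by
  have h1 : IsPGroup p (Subgroup.zpowers g) := by
    refine IsPGroup.of_card (n := 1) ?_
    rw [Nat.card_zpowers, hg, pow_one]
  have h2 := h1.inf_normalizer_sylow P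
  have h3 : g ∈ Subgroup.zpowers g ⊓ Subgroup.normalizer (P : Set L) := ⟨Subgroup.mem_zpowers g, h⟩
  rw [h2] at h3
  exact h3.2

variable [IsSimpleGroup L] [Fact (Nat.Prime 13)] [Fact (Nat.Prime 7)]

theorem card_norm (hL : Nat.card L = 1092) (hc : ∀ P : Sylow 13 L, Nat.card P = 13) (P : Sylow 13 L) :
    Nat.card (Subgroup.normalizer (P : Set L)) = 78 := by
  have h1 := number13 hL hc
  rw [Sylow.card_eq_index_normalizer P] at h1
  have h2 := (Subgroup.normalizer (P : Set L)).card_mul_index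
  rw [h1, hL] at h2
  omega

theorem card_inf (hL : Nat.card L = 1092) (hc : ∀ P : Sylow 13 L, Nat.card P = 13) {P Q : Sylow 13 L} (hPQ : P ≠ Q) :
    Nat.card (Subgroup.normalizer (P : Set L) ⊓ Subgroup.normalizer (Q : Set L) : Subgroup L) ≤ 6 := by
  have h1 := Subgroup.card_dvd_of_le
    (inf_le_left : Subgroup.normalizer (P : Set L) ⊓ Subgroup.normalizer (Q : Set L) ≤ Subgroup.normalizer (P : Set L))
  rw [card_norm hL hc P] at h1
  have h2 : ¬ 13 ∣ Nat.card (Subgroup.normalizer (P : Set L) ⊓ Subgroup.normalizer (Q : Set L) : Subgroup L) := by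
    intro h
    obtain ⟨⟨x, hx⟩, hx13⟩ := exists_prime_orderOf_dvd_card' 13 h
    rw [Subgroup.orderOf_mk] at hx13
    have h3 := mem_of_normalizer hx13 hx.1
    have h4 := mem_of_normalizer hx13 hx.2
    apply hPQ
    apply Sylow.ext
    rw [eq_of_mem hc hx13 h3, eq_of_mem hc hx13 h4]
  have h3 : (Nat.card (Subgroup.normalizer (P : Set L) ⊓ Subgroup.normalizer (Q : Set L) : Subgroup L)).Coprime 13 :=
    ((Nat.Prime.coprime_iff_not_dvd (by norm_num)).2 h2).symm
  exact Nat.le_of_dvd (by norm_num) (h3.dvd_of_dvd_mul_left (show _ ∣ 13 * 6 from h1))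

/-- the three counting functions -/
structure Cnt (L : Type*) [Group L] [Fintype L] (a b f : L → ℕ) : Prop where
  one : a 1 = 14 ∧ b 1 = 78 ∧ f 1 = 14
  thirteen : ∀ g, orderOf g = 13 → a g = 1 ∧ b g = 0 ∧ f g = 1
  seven : ∀ g, orderOf g = 7 → a g = 0 ∧ b g = 1 ∧ f g = 0
  other : ∀ g, g ≠ 1 → orderOf g ≠ 13 → orderOf g ≠ 7 → a g = 0 ∧ b g = 0
  sa : ∑ g, a g = 182
  sb : ∑ g, b g = 546
  sf : ∑ g, f g = 1092
  sff : ∑ g, (f g) ^ 2 ≤ 2184
  card : Fintype.card L = 1092

open Classical in
theorem Cnt.eq {L : Type*} [Group L] [Fintype L] {a b f : L → ℕ} (h : Cnt L a b f) :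
    ∀ g, a g + f g + 2 * b g = 2 + if g = 1 then 182 else 0 := by
  set e : L → ℤ := fun g => (2 + if g = 1 then 182 else 0) - (a g + f g + 2 * b g) with he
  set d : L → ℤ := fun g => if g = 1 then 1 else 0 with hd
  have hsq : ∀ g, e g ^ 2 = (f g : ℤ) ^ 2 - 4 * f g + 4 - 144 * d g - (a g - 14 * d g) - 4 * (b g - 78 * d g) := by
    intro g
    by_cases h1 : g = 1
    · subst h1
      obtain ⟨ha, hb, hf⟩ := h.one
      simp only [he, hd, if_true, ha, hb, hf]
      norm_num
    · by_cases h13 : orderOf g = 13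
      · obtain ⟨ha, hb, hf⟩ := h.thirteen g h13
        simp only [he, hd, if_neg h1, ha, hb, hf]
        norm_num
      · by_cases h7 : orderOf g = 7
        · obtain ⟨ha, hb, hf⟩ := h.seven g h7
          simp only [he, hd, if_neg h1, ha, hb, hf]
          norm_num
        · obtain ⟨ha, hb⟩ := h.other g h1 h13 h7
          simp only [he, hd, if_neg h1, ha, hb]
          push_cast
          ring
  have hdsum : ∑ g, d g = 1 := by simp [hd]
  have hsum : ∑ g, e g ^ 2 ≤ 0 := by
    have h1 : ∑ g, e g ^ 2 = ∑ g, (f g : ℤ) ^ 2 - 4 * ∑ g, (f g : ℤ) + 4 * (Fintype.card L : ℤ) - 144 * ∑ g, d g -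
        (∑ g, (a g : ℤ) - 14 * ∑ g, d g) - 4 * (∑ g, (b g : ℤ) - 78 * ∑ g, d g) := by
      rw [Finset.sum_congr rfl fun g _ => hsq g]
      simp only [Finset.sum_sub_distrib, Finset.sum_add_distrib, ← Finset.mul_sum, Finset.sum_const, Finset.card_univ,
        nsmul_eq_mul]
      ring
    have h2 : ∑ g, (a g : ℤ) = 182 := by exact_mod_cast h.sa
    have h3 : ∑ g, (b g : ℤ) = 546 := by exact_mod_cast h.sb
    have h4 : ∑ g, (f g : ℤ) = 1092 := by exact_mod_cast h.sf
    have h5 : ∑ g, (f g : ℤ) ^ 2 ≤ 2184 := by exact_mod_cast h.sff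
    rw [h1, h2, h3, h4, hdsum, h.card]
    push_cast
    linarith
  have hz : ∀ g, e g ^ 2 = 0 := by
    have h1 : ∑ g, e g ^ 2 = 0 := le_antisymm hsum (Finset.sum_nonneg fun g _ => sq_nonneg _)
    have h2 := (Finset.sum_eq_zero_iff_of_nonneg (fun g _ => sq_nonneg (e g))).1 h1
    exact fun g => h2 g (Finset.mem_univ g)
  intro g
  have h1 := pow_eq_zero_iff (two_ne_zero) |>.1 (hz g)
  simp only [he] at h1
  have h2 : ((a g + f g + 2 * b g : ℕ) : ℤ) = ((2 + if g = 1 then 182 else 0 : ℕ) : ℤ) := by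
    push_cast
    linarith
  exact_mod_cast h2

open Classical in
theorem cnt (hL : Nat.card L = 1092) [Fintype (Sylow 13 L)] [Fintype (Sylow 7 L)] :
    Cnt L (fun g => #(univ.filter fun P : Sylow 13 L => g ∈ (P : Subgroup L)))
      (fun g => #(univ.filter fun P : Sylow 7 L => g ∈ (P : Subgroup L)))
      (fun g => #(univ.filter fun P : Sylow 13 L => g ∈ Subgroup.normalizer (P : Set L))) := by
  have hc13 : ∀ P : Sylow 13 L, Nat.card P = 13 := card_sylow (by rw [hL]; norm_num) (by rw [hL]; norm_num)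
  have hc7 : ∀ P : Sylow 7 L, Nat.card P = 7 := card_sylow (by rw [hL]; norm_num) (by rw [hL]; norm_num)
  have hn13 : Fintype.card (Sylow 13 L) = 14 := by rw [← Nat.card_eq_fintype_card]; exact number13 hL hc13
  have hn7 : Fintype.card (Sylow 7 L) = 78 := by rw [← Nat.card_eq_fintype_card]; exact number7 hL hc7
  have hcN := card_norm hL hc13
  refine ⟨⟨?_, ?_, ?_⟩, fun g hg => ⟨cnt_order hc13 hg, ?_, ?_⟩, fun g hg => ⟨?_, cnt_order hc7 hg, ?_⟩,
    fun g h1 h13 h7 => ⟨cnt_ne hc13 h1 h13, cnt_ne hc7 h1 h7⟩, ?_, ?_, ?_, ?_, ?_⟩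
  · rw [cnt_one, hn13]
  · rw [cnt_one, hn7]
  · rw [cnt_one (fun P : Sylow 13 L => Subgroup.normalizer (P : Set L)), hn13]
  · refine cnt_ne hc7 ?_ (by rw [hg]; norm_num)
    rintro rfl
    rw [orderOf_one] at hg
    norm_num at hg
  · rw [← cnt_order hc13 hg]
    congr 1
    ext P
    simp only [mem_filter, mem_univ, true_and]
    exact ⟨fun h => mem_of_normalizer hg h, fun h => Subgroup.le_normalizer h⟩
  · refine cnt_ne hc13 ?_ (by rw [hg]; norm_num)
    rintro rfl
    rw [orderOf_one] at hg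
    norm_num at hg
  · rw [card_eq_zero, filter_eq_empty_iff]
    intro P _ hP
    have h2 : orderOf (⟨g, hP⟩ : Subgroup.normalizer (P : Set L)) ∣ Nat.card (Subgroup.normalizer (P : Set L)) :=
      orderOf_dvd_natCard _
    rw [Subgroup.orderOf_mk, hg, hcN P] at h2
    norm_num at h2
  · rw [sum_card fun P : Sylow 13 L => (P : Subgroup L)]
    rw [Finset.sum_congr rfl fun P _ => hc13 P, sum_const, card_univ, hn13]
    rfl
  · rw [sum_card fun P : Sylow 7 L => (P : Subgroup L)]
    rw [Finset.sum_congr rfl fun P _ => hc7 P, sum_const, card_univ, hn7]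
    rfl
  · rw [sum_card fun P : Sylow 13 L => Subgroup.normalizer (P : Set L)]
    rw [Finset.sum_congr rfl fun P _ => hcN P, sum_const, card_univ, hn13]
    rfl
  · have h1 : ∀ g : L, (#(univ.filter fun P : Sylow 13 L => g ∈ Subgroup.normalizer (P : Set L))) ^ 2 =
        #(univ.filter fun P : Sylow 13 L × Sylow 13 L =>
          g ∈ Subgroup.normalizer (P.1 : Set L) ⊓ Subgroup.normalizer (P.2 : Set L)) := by
      intro g
      rw [pow_two, ← card_product]
      congr 1
      ext P
      simp only [mem_filter, mem_univ, true_and, mem_product, Subgroup.mem_inf]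
    rw [Finset.sum_congr rfl fun g _ => h1 g,
      sum_card fun P : Sylow 13 L × Sylow 13 L => Subgroup.normalizer (P.1 : Set L) ⊓ Subgroup.normalizer (P.2 : Set L)]
    have h2 : ∀ P : Sylow 13 L × Sylow 13 L,
        Nat.card (Subgroup.normalizer (P.1 : Set L) ⊓ Subgroup.normalizer (P.2 : Set L) : Subgroup L) ≤
          6 + if P.1 = P.2 then 72 else 0 := by
      rintro ⟨P, Q⟩
      by_cases h : P = Q
      · subst h
        simp only [if_true, inf_idem]
        rw [hcN P]
      · simp only [if_neg h, add_zero]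
        exact card_inf hL hc13 h
    refine (Finset.sum_le_sum fun P _ => h2 P).trans ?_
    simp only [Fintype.sum_prod_type, sum_add_distrib, sum_const, card_univ, Fintype.card_prod, hn13, Finset.sum_ite_eq,
      mem_univ, if_true, smul_eq_mul]
    norm_num
  · rw [← Nat.card_eq_fintype_card, hL]

open Classical in
/-- **Fixed vectors.** -/
theorem fix (hL : Nat.card L = 1092) {V : Type*} [AddCommGroup V] [Nontrivial V] (hV : ∀ v : V, 3 • v = 0)
    (φ : L →* AddMonoid.End V) : ∃ x : L, (orderOf x = 7 ∨ orderOf x = 13) ∧ ∃ v : V, v ≠ 0 ∧ φ x v = v := by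
  by_contra hcon
  push Not at hcon
  let _ : Fintype (Sylow 13 L) := Fintype.ofFinite _
  let _ : Fintype (Sylow 7 L) := Fintype.ofFinite _
  have hC := cnt hL
  have hc13 : ∀ P : Sylow 13 L, Nat.card P = 13 := card_sylow (by rw [hL]; norm_num) (by rw [hL]; norm_num)
  have hc7 : ∀ P : Sylow 7 L, Nat.card P = 7 := card_sylow (by rw [hL]; norm_num) (by rw [hL]; norm_num)
  have h13 : ∀ P : Sylow 13 L, ∃ x ∈ (P : Subgroup L), ∀ v : V, φ x v = v → v = 0 := by
    intro P
    obtain ⟨⟨x, hx⟩, hx13⟩ := exists_prime_orderOf_dvd_card' 13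
      (show 13 ∣ Nat.card (P : Subgroup L) from (hc13 P).symm ▸ dvd_rfl)
    rw [Subgroup.orderOf_mk] at hx13
    refine ⟨x, hx, fun v hv => ?_⟩
    by_contra hv0
    exact hcon x (Or.inr hx13) v hv0 hv
  have h7 : ∀ P : Sylow 7 L, ∃ x ∈ (P : Subgroup L), ∀ v : V, φ x v = v → v = 0 := by
    intro P
    obtain ⟨⟨x, hx⟩, hx7⟩ := exists_prime_orderOf_dvd_card' 7
      (show 7 ∣ Nat.card (P : Subgroup L) from (hc7 P).symm ▸ dvd_rfl)
    rw [Subgroup.orderOf_mk] at hx7
    refine ⟨x, hx, fun v hv => ?_⟩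
    by_contra hv0
    exact hcon x (Or.inl hx7) v hv0 hv
  obtain ⟨v, hv⟩ := exists_ne (0 : V)
  have sA := sum_card_smul φ (fun P : Sylow 13 L => (P : Subgroup L)) v
  have sB := sum_card_smul φ (fun P : Sylow 7 L => (P : Subgroup L)) v
  have sF := sum_card_smul φ (fun P : Sylow 13 L => Subgroup.normalizer (P : Set L)) v
  replace sA := sA.trans (Finset.sum_eq_zero fun P _ => by
    obtain ⟨x, hx, hf⟩ := h13 P
    exact sum_mem_eq_zero φ (P : Subgroup L) hx hf v)
  replace sB := sB.trans (Finset.sum_eq_zero fun P _ => by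
    obtain ⟨x, hx, hf⟩ := h7 P
    exact sum_mem_eq_zero φ (P : Subgroup L) hx hf v)
  replace sF := sF.trans (Finset.sum_eq_zero fun P _ => by
    obtain ⟨x, hx, hf⟩ := h13 P
    exact sum_mem_eq_zero φ (Subgroup.normalizer (P : Set L)) (Subgroup.le_normalizer hx) hf v)
  have s1 : ∑ g : L, φ g v = 0 := by
    obtain ⟨x, hx, hf⟩ := h13 default
    have := sum_mem_eq_zero φ (⊤ : Subgroup L) (Subgroup.mem_top x) hf v
    simpa using this
  have key : ∑ g : L, (2 + if g = 1 then 182 else 0 : ℕ) • φ g v = 0 := by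
    rw [← Finset.sum_congr rfl fun g _ => congrArg (· • φ g v) (hC.eq g)]
    simp only [add_smul, mul_smul, sum_add_distrib, ← Finset.smul_sum]
    rw [sA, sB, sF]
    simp
  have key2 : (182 : ℕ) • v = 0 := by
    simp only [add_smul, sum_add_distrib, ← Finset.smul_sum, s1, ite_smul, zero_smul, Finset.sum_ite_eq', mem_univ,
      if_true, smul_zero, zero_add, map_one] at key
    exact key
  apply hv
  have h3 : (182 : ℕ) • v = 2 • v + 60 • (3 • v) := by
    rw [show (182 : ℕ) = 2 + 60 * 3 by norm_num, add_smul, mul_smul]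
  rw [hV, smul_zero, add_zero] at h3
  have h4 : (3 : ℕ) • v = 2 • v + v := by rw [show (3 : ℕ) = 2 + 1 from rfl, add_smul, one_smul]
  rw [hV, ← h3, key2, zero_add] at h4
  exact h4.symm

end count

end Cfsg.Agent.H369.G3.Fix13
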